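import Cfsg.Agent.Lib.PushingUp.QdSplit

/-!
# Pushing up: maximal `p`-local subgroups
-/

set_option autoImplicit false

namespace CfsgLib.PushingUp

open Subgroup Cfsg CfsgLib.ConjFunctor
open scoped MatrixGroups commutatorElement

variable {H : Type*} [Group H] [Finite H] {p : ℕ} [hp : Fact p.Prime] {G : Subgroup H}

/-- A normal `p`-subgroup of a maximal local has that local as normalizer. -/
theorem normalizer_eq_of_local
    (hmax : ∀ R : Subgroup H, IsPGroup p R → R ≠ ⊥ → G ≤ normalizer (R : Set H) →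
      normalizer (R : Set H) = G)
    {T : Subgroup G} [T.Normal] (hT : IsPGroup p T) (hne : T ≠ ⊥) :
    normalizer ((T.map G.subtype : Subgroup H) : Set H) = G := by
  refine hmax _ (hT.map _) (fun h => hne ?_) fun g hg => ?_
  · exact map_injective G.subtype_injective (h.trans (Subgroup.map_bot _).symm)
  · rw [← cj_eq_self_iff]
    refine eq_of_le_of_card_ge ?_ (card_cj _ _).ge
    rintro _ ⟨_, ⟨x, hx, rfl⟩, rfl⟩
    exact ⟨⟨g, hg⟩ * x * ⟨g, hg⟩⁻¹, ‹T.Normal›.conj_mem x hx _, rfl⟩

/-- Conjugation transports normalizers of a maximal local. -/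
theorem mem_normalizer_cj {X : Type*} [Group X] {A : Subgroup X} {a : X} {x : X} :
    x ∈ normalizer ((cj a A : Subgroup X) : Set X) ↔ a⁻¹ * x * a ∈ normalizer (A : Set X) := by
  rw [← cj_eq_self_iff, ← cj_eq_self_iff, ← cj_mul]
  constructor
  · intro h
    rw [cj_mul, cj_mul, ← cj_mul x a, h, ← cj_mul, inv_mul_cancel, cj_one]
  · intro h
    rw [show x * a = a * (a⁻¹ * x * a) by group, cj_mul, h]

variable {F : Type} [Field F] [Fintype F] {n : ℕ}

theorem Conf.E_abelian {σ : Sit p n G F} (k : Conf σ)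
    (hE : centralizer (pCore p G : Set G) ≤ pCore p G) (hA : k.A = ⊥) (hB : k.B = ⊥)
    (h5 : p ≠ 2 ∧ p ≠ 3)
    (hmax : ∀ R : Subgroup H, IsPGroup p R → R ≠ ⊥ → G ≤ normalizer (R : Set H) →
      normalizer (R : Set H) = G)
    {a : H} (ha : a ∈ normalizer (((σ.S : Subgroup G).map G.subtype : Subgroup H) : Set H))
    (haG : a ∉ G) : ⁅k.E, k.E⁆ = ⊥ := by
  haveI := k.E_normal
  set E' := ⁅k.E, k.E⁆ with hE'
  have hconjS : ∀ x : G, x ∈ (σ.S : Subgroup G) →
      ∃ y : G, y ∈ (σ.S : Subgroup G) ∧ (y : H) = a * x * a⁻¹ := by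
    intro x hx
    obtain ⟨y, hy, hyx⟩ := (mem_normalizer_iff.1 ha (x : H)).1 (mem_map_of_mem G.subtype hx)
    exact ⟨y, hy, hyx⟩
  have hcen : ∀ z ∈ E', z ∈ center G := fun z hz => (k.comm_E_central hA hB hz).1
  -- normalizers of central elements
  have hcentG : ∀ z ∈ E', z ≠ 1 → normalizer (((zpowers z).map G.subtype : Subgroup H) : Set H) = G := by
    intro z hz hz1
    haveI : (zpowers z).Normal := ⟨fun x hx g => by
      have hxc : x ∈ center G := zpowers_le.2 (hcen z hz) hx
      rwa [mem_center_iff.1 hxc g, mul_inv_cancel_right]⟩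
    refine normalizer_eq_of_local hmax ?_ (by simpa using hz1)
    exact (Solvable.pCore_isPGroup p G).to_le
      (zpowers_le.2 (k.E_le_Q (k.comm_E_central hA hB hz).2))
  -- no central element is moved to a central element
  have hdisj : ∀ z ∈ E', ∀ w ∈ E', (w : H) = a * z * a⁻¹ → z = 1 := by
    intro z hz w hw he
    by_contra hz1
    have hw1 : w ≠ 1 := fun h => hz1 (by
      rw [h, OneMemClass.coe_one, eq_comm, conj_eq_one_iff] at he
      exact Subtype.ext he)
    have hP := hcentG z hz hz1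
    have hW := hcentG w hw hw1
    have hcj : (zpowers w).map G.subtype = cj a ((zpowers z).map G.subtype) := by
      rw [MonoidHom.map_zpowers, MonoidHom.map_zpowers, cj, MonoidHom.map_zpowers]
      simp [he]
    rw [hcj] at hW
    have hGconj : ∀ x, x ∈ G ↔ a⁻¹ * x * a ∈ G := fun x => by
      conv_lhs => rw [← hW, mem_normalizer_cj, hP]
    have hQne : pCore p G ≠ ⊥ := fun h => σ.S_ne_top (eq_top_iff.2 fun x _ => σ.pCore_le_S (hE (by
      rw [h]
      intro y hy
      rw [mem_bot.1 hy, one_mul, mul_one])))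
    haveI : (pCore p G).Normal := Solvable.pCore_normal p G
    have hQ := normalizer_eq_of_local hmax (T := pCore p G) (Solvable.pCore_isPGroup p G) hQne
    -- conjugation by `a⁻¹` is an automorphism of `G`
    let φ : G ≃* G :=
      { toFun := fun x => ⟨a⁻¹ * x * a, (hGconj _).1 x.2⟩
        invFun := fun x => ⟨a * x * a⁻¹, (hGconj _).2 (by simp [mul_assoc])⟩
        left_inv := fun x => Subtype.ext (by simp [mul_assoc])
        right_inv := fun x => Subtype.ext (by simp [mul_assoc])
        map_mul' := fun x y => Subtype.ext (by simp [mul_assoc]) }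
    have hchar := characteristic_iff_map_eq.1 (Solvable.pCore_characteristic p G) φ
    refine haG ?_
    rw [← inv_mem_iff, ← hQ, ← cj_eq_self_iff, cj, map_map]
    conv_rhs => rw [← hchar, map_map]
    congr 1
    ext x
    simp [φ]
  -- the commutator of a translated element of `E`
  have htrans : ∀ e ∈ k.E, ∀ y ∈ (σ.S : Subgroup G), (y : H) = a * e * a⁻¹ →
      ∀ s ∈ (σ.S : Subgroup G), ∃ z ∈ E', ((⁅y, s⁆ : G) : H) = a * z * a⁻¹ := by
    intro e he y hy hye s hs
    obtain ⟨s', hs', hss⟩ := (mem_normalizer_iff.1 (inv_mem ha) (s : H)).1 (mem_map_of_mem G.subtype hs)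
    refine ⟨⁅e, s'⁆, k.comm_E_top (commutator_mem_commutator he (mem_top _)), ?_⟩
    rw [show ((⁅y, s⁆ : G) : H) = ⁅(y : H), (s : H)⁆ from map_commutatorElement G.subtype y s,
      show ((⁅e, s'⁆ : G) : H) = ⁅(e : H), (s' : H)⁆ from map_commutatorElement G.subtype e s', hye]
    rw [Subgroup.coe_subtype] at hss
    rw [hss]
    simp only [commutatorElement_def]
    group
  obtain ⟨t, m, htN, hm, hm1, hscale⟩ := k.exists_scale hE hA hB h5
  -- translated elements centralise `V`
  have hV : ∀ e ∈ k.E, ∀ y ∈ (σ.S : Subgroup G), (y : H) = a * e * a⁻¹ →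
      y ∈ centralizer (k.d.V : Set G) := by
    intro e he y hy hye v hv
    refine (commutatorElement_eq_one_iff_mul_comm.1 ?_).symm
    obtain ⟨z, hz, hzeq⟩ := htrans e he y hy hye v (σ.pCore_le_S (k.d.le hv))
    set c : G := ⁅y, v⁆
    by_contra hc1
    have hz1 : z ≠ 1 := fun h => hc1 (Subtype.ext (by rw [hzeq, h]; simp))
    have hN := hcentG z hz hz1
    have htc := hscale y hy v hv
    have htZ : a⁻¹ * (t : H) * a ∈ G := by
      refine (le_of_eq hN) (mem_normalizer_cj.1 ?_)
      rw [show cj a ((zpowers z).map G.subtype) = zpowers ((c : G) : H) by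
        rw [cj, MonoidHom.map_zpowers, MonoidHom.map_zpowers]; simp [hzeq]]
      rw [← cj_eq_self_iff]
      refine eq_of_le_of_card_ge ?_ (card_cj _ _).ge
      rw [cj, MonoidHom.map_zpowers, zpowers_le]
      have h1 := congrArg Subtype.val htc
      simp only [Subgroup.coe_mul, InvMemClass.coe_inv, SubgroupClass.coe_pow] at h1
      rw [MulEquiv.coe_toMonoidHom, MulAut.conj_apply, h1]
      exact pow_mem (mem_zpowers _) _
    have hfix : t * c * t⁻¹ = c := by
      have h1 := mem_center_iff.1 (hcen z hz) ⟨_, htZ⟩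
      have h2 : a⁻¹ * (t : H) * a * z = z * (a⁻¹ * (t : H) * a) := congrArg Subtype.val h1
      refine Subtype.ext ?_
      simp only [Subgroup.coe_mul, InvMemClass.coe_inv]
      rw [hzeq]
      calc (t : H) * (a * z * a⁻¹) * (t : H)⁻¹
          = a * (a⁻¹ * (t : H) * a * z) * (a⁻¹ * (t : H) * a)⁻¹ * a⁻¹ := by group
        _ = _ := by rw [h2]; group
    have hz' : c ^ (4 * m - 1) = 1 := by
      refine mul_right_cancel (b := c) ?_
      rw [← pow_succ, Nat.sub_add_cancel hm1, ← htc, hfix, one_mul]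
    have hcp : c ^ p = 1 :=
      (k.pow_case_one hA hB).2 h5.1 c (σ.pCore_le_S (k.d.le (k.d.z_le (by
        have h3 := k.d.quad (commutator_mem_commutator hv hy)
        show ⁅y, v⁆ ∈ _
        rw [← commutatorElement_inv]
        exact inv_mem h3))))
    exact hc1 (eq_one_of_pow_pred hcp hz' hm)
  -- conclusion
  have hEab : ∀ e ∈ k.E, ∀ f ∈ k.E, ∀ y z : G, y ∈ (σ.S : Subgroup G) → z ∈ (σ.S : Subgroup G) →
      (y : H) = a * e * a⁻¹ → (z : H) = a * f * a⁻¹ → y * z = z * y := by
    intro e he f hf y z hy hz hye hzf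
    have hyQ : y ∈ pCore p G := k.d.cent_le ⟨hy, hV e he y hy hye⟩
    rw [← k.one_Q hA hB] at hyQ
    haveI := k.E_normal
    obtain ⟨v, hv, w, hw, rfl⟩ := exists_mul_of_sup hyQ
    have h1 : Commute z v := (hV f hf z hz hzf v hv).symm
    have h2 : Commute z w := by
      have hwS : w ∈ (σ.S : Subgroup G) := σ.pCore_le_S (k.E_le_Q hw)
      obtain ⟨z', hz', hze⟩ := htrans f hf z hz hzf w hwS
      have hmem : ⁅z, w⁆ ∈ E' := by
        rw [← commutatorElement_inv]
        exact inv_mem (k.comm_E_top (commutator_mem_commutator hw (mem_top z)))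
      have h3 := hdisj z' hz' _ hmem hze
      rw [h3, OneMemClass.coe_one, mul_one, mul_inv_cancel] at hze
      exact commutatorElement_eq_one_iff_mul_comm.1 (Subtype.ext hze)
    exact (h1.mul_right h2).eq.symm
  refine eq_bot_iff.2 (commutator_le.2 fun e he f hf => ?_)
  rw [mem_bot, commutatorElement_eq_one_iff_mul_comm]
  obtain ⟨y, hy, hye⟩ := hconjS e (σ.pCore_le_S (k.E_le_Q he))
  obtain ⟨z, hz, hzf⟩ := hconjS f (σ.pCore_le_S (k.E_le_Q hf))
  have h := congrArg Subtype.val (hEab e he f hf y z hy hz hye hzf)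
  simp only [Subgroup.coe_mul, hye, hzf] at h
  refine Subtype.ext ?_
  simp only [Subgroup.coe_mul]
  exact mul_left_cancel (a := a) (mul_right_cancel (b := a⁻¹) (by simpa [mul_assoc] using h))

theorem maximal_local_qd (h5 : p ≠ 2 ∧ p ≠ 3)
    (hmax : ∀ R : Subgroup H, IsPGroup p R → R ≠ ⊥ → G ≤ normalizer (R : Set H) →
      normalizer (R : Set H) = G)
    (σ : Sit p n G F) (hE : centralizer (pCore p G : Set G) ≤ pCore p G)
    (hN : ¬ normalizer (((σ.S : Subgroup G).map G.subtype : Subgroup H) : Set H) ≤ G) :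
    ∃ G₀ E : Subgroup H, IsInternalDirectProduct G₀ E G ∧ IsElementaryAbelian p E ∧
      Nonempty (↥G₀ ≃* ↥(Cfsg.qdOver F)) := by
  obtain ⟨a, ha, haG⟩ := SetLike.not_le_iff_exists.1 hN
  have hd : ∀ T : Subgroup ↥(σ.S : Subgroup G), T ≠ ⊥ → T.Characteristic →
      ¬ (T.map (σ.S : Subgroup G).subtype).Normal := by
    intro T hT hTc hTn
    haveI := hTn
    have hTS : IsPGroup p (T.map (σ.S : Subgroup G).subtype) :=
      σ.S.2.to_le (Subgroup.map_subtype_le T)
    have hN' := normalizer_eq_of_local hmax hTS (fun h => hT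
      (map_injective (σ.S : Subgroup G).subtype_injective (h.trans (Subgroup.map_bot _).symm)))
    refine haG (hN'.le ?_)
    rw [← cj_eq_self_iff]
    let φ : ↥(σ.S : Subgroup G) ≃* ↥(σ.S : Subgroup G) :=
      ((((σ.S : Subgroup G).equivMapOfInjective G.subtype G.subtype_injective).trans
        (MulEquiv.subgroupMap (MulAut.conj a) ((σ.S : Subgroup G).map G.subtype))).trans
        (MulEquiv.subgroupCongr (by
          show cj a _ = _
          exact cj_eq_self_iff.2 ha))).trans
        ((σ.S : Subgroup G).equivMapOfInjective G.subtype G.subtype_injective).symm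
    have hφ : ∀ x : ↥(σ.S : Subgroup G), (((φ x : ↥(σ.S : Subgroup G)) : G) : H) =
        a * ((x : G) : H) * a⁻¹ := by
      intro x
      have h1 := ((σ.S : Subgroup G).equivMapOfInjective G.subtype G.subtype_injective).apply_symm_apply
        ((MulEquiv.subgroupCongr (show ((σ.S : Subgroup G).map G.subtype).map
          (MulAut.conj a : H ≃* H).toMonoidHom = (σ.S : Subgroup G).map G.subtype by
            exact cj_eq_self_iff.2 ha)) (MulEquiv.subgroupMap (MulAut.conj a) _
          ((σ.S : Subgroup G).equivMapOfInjective G.subtype G.subtype_injective x)))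
      exact congrArg Subtype.val h1
    have hc := characteristic_iff_map_eq.1 hTc φ
    refine eq_of_le_of_card_ge ?_ (card_cj _ _).ge
    rintro _ ⟨_, ⟨_, ⟨x, hx, rfl⟩, rfl⟩, rfl⟩
    exact ⟨_, ⟨φ x, hc.le (mem_map_of_mem φ.toMonoidHom hx), rfl⟩, hφ x⟩
  obtain ⟨k, hk | hc2⟩ := exists_conf σ hE hd
  · have hab := k.E_abelian hE hk.1 hk.2 h5 hmax ha haG
    obtain ⟨G0, hcomm, hinf, hsup, ⟨e⟩⟩ := k.exists_qd hE hk.1 hk.2 h5.1 hab
    refine ⟨G0.map G.subtype, k.E.map G.subtype, ⟨map_subtype_le _, map_subtype_le _, ?_, ?_, ?_⟩,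
      ⟨⟨⟨?_⟩⟩, ?_⟩, ⟨(G0.equivMapOfInjective G.subtype G.subtype_injective).symm.trans e⟩⟩
    · rintro _ ⟨x, hx, rfl⟩ _ ⟨y, hy, rfl⟩
      rw [← map_mul, ← map_mul, hcomm x hx y hy]
    · rw [← map_inf _ _ _ G.subtype_injective, hinf, Subgroup.map_bot]
    · rw [← Subgroup.map_sup, hsup, ← MonoidHom.range_eq_map, range_subtype]
    · rintro ⟨_, x, hx, rfl⟩ ⟨_, y, hy, rfl⟩
      refine Subtype.ext ?_
      show G.subtype x * G.subtype y = G.subtype y * G.subtype x
      rw [← map_mul, ← map_mul, mem_center_iff.1 (k.E_le_center hk.1 hk.2 hab hy) x]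
    · rintro _ ⟨x, hx, rfl⟩
      rw [← map_pow, (k.pow_case_one hk.1 hk.2).2 h5.1 x (σ.pCore_le_S (k.E_le_Q hx)), map_one]
  · exact absurd (k.p_eq_three hc2 hE) h5.2

end CfsgLib.PushingUp
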