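import Cfsg.Agent.Lib.PushingUp.Structure
import Cfsg.Agent.Lib.LocalEven.QdOver
import Cfsg.Agent.Lib.Solvable.Gaschutz
import Cfsg.Prelude.Def_TwoFusion

/-!
# Pushing up: maximal local subgroups are `Qd(q) × E`
-/

set_option autoImplicit false

namespace CfsgLib.PushingUp

open Subgroup Cfsg CfsgLib.ConjFunctor CfsgLib.LocalEven.QdOver
open scoped MatrixGroups commutatorElement

variable {G : Type*} [Group G] [Finite G] {F : Type} [Field F] [Fintype F] {p n : ℕ}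
  [hp : Fact p.Prime] {σ : Sit p n G F}

theorem eq_one_of_pow_pred {x : G} (hx : x ^ p = 1) {m : ℕ} (h : x ^ m = 1)
    (hm : (m : ZMod p) ≠ 0) : x = 1 := by
  have hcop : Nat.Coprime m p := by
    rw [Nat.coprime_comm, hp.out.coprime_iff_not_dvd]
    exact fun hd => hm ((CharP.cast_eq_zero_iff (ZMod p) p m).2 hd)
  have := pow_gcd_eq_one.2 ⟨h, hx⟩
  rwa [Nat.coprime_iff_gcd_eq_one.1 hcop, pow_one] at this

namespace Conf

variable (k : Conf σ) (hE : centralizer (pCore p G : Set G) ≤ pCore p G)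
  (hA : k.A = ⊥) (hB : k.B = ⊥)

include hA hB in
theorem comm_E_central {z : G} (hz : z ∈ ⁅k.E, k.E⁆) : z ∈ center G ∧ z ∈ k.E := by
  haveI := k.E_normal
  have hzE : z ∈ k.E := commutator_le_self k.E hz
  refine ⟨mem_center_iff.2 fun y => ?_, hzE⟩
  have h1 : ⁅⁅k.E, k.E⁆, (⊤ : Subgroup G)⁆ ≤ ⊥ := by
    refine (k.comm_E_top_le _ (commutator_le_self k.E) ?_).trans ?_
    · rw [normalizer_eq_top]; exact le_top
    · rw [← k.one_lcs hA hB]
      exact commutator_mono (commutator_mono (k.E_le_Q.trans σ.pCore_le_S)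
        (k.E_le_Q.trans σ.pCore_le_S)) (k.E_le_Q.trans σ.pCore_le_S)
  exact (commutatorElement_eq_one_iff_mul_comm.1
    (mem_bot.1 (h1 (commutator_mem_commutator hz (mem_top y))))).symm

theorem comm_E_top : ⁅k.E, (⊤ : Subgroup G)⁆ ≤ ⁅k.E, k.E⁆ :=
  k.comm_E_top_le _ le_rfl le_normalizer

include hE hA hB in
/-- A torus element scales every commutator of `S` with `V`. -/
theorem exists_scale (h5 : p ≠ 2 ∧ p ≠ 3) :
    ∃ (t : G) (m : ℕ), t ∈ normalizer ((σ.S : Subgroup G) : Set G) ∧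
      (((4 * m - 1 : ℕ)) : ZMod p) ≠ 0 ∧ 1 ≤ 4 * m ∧
      ∀ y ∈ (σ.S : Subgroup G), ∀ v ∈ k.d.V, t * ⁅y, v⁆ * t⁻¹ = ⁅y, v⁆ ^ (4 * m) := by
  obtain ⟨t, m, htN, hm, htS, hweight⟩ := k.f.exists_weight h5.1 h5.2
  haveI hQn : (pCore p G).Normal := Solvable.pCore_normal p G
  haveI := k.d.normal
  obtain ⟨hc, hnc⟩ := k.d.chief k.f hE k.hd
  obtain ⟨M⟩ := exists_natData k.f hE k.hd k.d.le hc hnc
  have hm1 : 1 ≤ m := by
    rcases Nat.eq_zero_or_pos m with rfl | h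
    · simp at hm
    · exact h
  refine ⟨t, m, htN, ?_, by omega, fun y hy v hv => ?_⟩
  · rw [Nat.cast_sub (by omega), Nat.cast_mul, Nat.cast_one]
    intro h
    have : (4 : ZMod p) * m - 1 = 1 := by
      linear_combination (2 : ZMod p) * hm
    simp only [Nat.cast_ofNat] at h
    rw [h] at this
    exact zero_ne_one this
  have hconjV : t * v * t⁻¹ ∈ k.d.V := k.d.normal.conj_mem v hv t
  set u : k.d.V := (⟨v, hv⟩ ^ m)⁻¹ * ⟨t * v * t⁻¹, hconjV⟩
  have hz : (u : G) ∈ centralizer ((σ.S : Subgroup G) : Set G) := by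
    intro s hs
    have hu : M.ψ u = M.ψ ⟨t * v * t⁻¹, hconjV⟩ - m • M.ψ ⟨v, hv⟩ := by
      rw [M.add, M.inv, M.pow]; abel
    have h1 := (M.comm_mem s u (k.d.normal.conj_mem _ u.2 s)).2 (by
      rw [hu]; exact hweight _ _ inferInstance inferInstance M ⟨v, hv⟩ hconjV s hs)
    have h4 : ⁅(u : G), s⁆ ∈ center G := by
      rw [← commutatorElement_inv]; exact inv_mem h1.2
    exact (commutatorElement_eq_one_iff_mul_comm.1 (k.d.f1 s hs _ u.2 h4)).symm
  have htv : t * v * t⁻¹ = v ^ m * (u : G) := by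
    simp [u]
  set r := t * y * t⁻¹ * (y ^ 4)⁻¹ with hr
  have hrQ : r ∈ pCore p G := htS y hy
  have hcen : ∀ {a b : G}, a ∈ (σ.S : Subgroup G) → b ∈ (σ.S : Subgroup G) →
      ∀ w ∈ (σ.S : Subgroup G), Commute ⁅a, b⁆ w := by
    intro a b ha hb w hw
    refine commutatorElement_eq_one_iff_mul_comm.1 ?_
    rw [← mem_bot, ← k.one_lcs hA hB]
    exact commutator_mem_commutator (commutator_mem_commutator ha hb) hw
  have hvS : v ∈ (σ.S : Subgroup G) := σ.pCore_le_S (k.d.le hv)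
  have hy4 : y ^ 4 ∈ (σ.S : Subgroup G) := pow_mem hy 4
  have hvm : v ^ m ∈ k.d.V := pow_mem hv m
  calc t * ⁅y, v⁆ * t⁻¹ = ⁅r * y ^ 4, v ^ m * (u : G)⁆ := by
        rw [← htv, hr]; simp only [commutatorElement_def]; group
    _ = ⁅r * y ^ 4, v ^ m⁆ := by
        have hu1 : Commute (u : G) (r * y ^ 4) :=
          (hz _ (mul_mem (σ.pCore_le_S hrQ) hy4)).symm
        simp only [commutatorElement_def, mul_inv_rev]
        calc r * y ^ 4 * (v ^ m * (u : G)) * ((y ^ 4)⁻¹ * r⁻¹) * ((u : G)⁻¹ * (v ^ m)⁻¹)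
            = r * y ^ 4 * v ^ m * ((u : G) * (r * y ^ 4)⁻¹ * (u : G)⁻¹) * (v ^ m)⁻¹ := by group
          _ = _ := by rw [hu1.inv_right.eq, mul_inv_cancel_right]; group
    _ = ⁅y ^ 4, v ^ m⁆ := by
        have e : ⁅r * y ^ 4, v ^ m⁆ = r * ⁅y ^ 4, v ^ m⁆ * r⁻¹ * ⁅r, v ^ m⁆ := by
          simp only [commutatorElement_def]; group
        rw [e, commutatorElement_eq_one_iff_mul_comm.2 (k.d.pcore_cent hrQ _ hvm).symm, mul_one,
          ← (hcen hy4 (pow_mem hvS m) r (σ.pCore_le_S hrQ)).eq, mul_inv_cancel_right]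
    _ = _ := comm_pow_pow (hcen hy hvS y hy) (hcen hy hvS v hvS) 4 m

include hA hB in
/-- If `E` is abelian it is central. -/
theorem E_le_center (hab : ⁅k.E, k.E⁆ = ⊥) : k.E ≤ center G := by
  intro e he
  refine mem_center_iff.2 fun y => ?_
  have h1 := k.comm_E_top (commutator_mem_commutator he (mem_top y))
  rw [hab, mem_bot, commutatorElement_eq_one_iff_mul_comm] at h1
  exact h1.symm

include hA hB in
theorem Q_abelian (h2 : p ≠ 2) (hab : ⁅k.E, k.E⁆ = ⊥) :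
    IsMulCommutative (pCore p G) ∧ ∀ q ∈ pCore p G, q ^ p = 1 := by
  haveI := k.E_normal
  have hcen := k.E_le_center hA hB hab
  refine ⟨⟨⟨fun a b => Subtype.ext ?_⟩⟩,
    fun q hq => (k.pow_case_one hA hB).2 h2 q (σ.pCore_le_S hq)⟩
  show (a : G) * b = b * a
  obtain ⟨v, hv, e, he, hva⟩ := exists_mul_of_sup (show (a : G) ∈ k.d.V ⊔ k.E by
    rw [k.one_Q hA hB]; exact a.2)
  have hvb : Commute v (b : G) := (k.d.pcore_cent b.2 v hv)
  have heb : Commute e (b : G) := (mem_center_iff.1 (hcen he) b).symm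
  rw [hva]
  exact hvb.mul_left heb

end Conf

end CfsgLib.PushingUp
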