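import Cfsg.Agent.Lib.PushingUp.QdProduct

/-!
# Pushing up: splitting over the core and the isomorphism with `Qd(q)`
-/

set_option autoImplicit false

namespace CfsgLib.PushingUp

open Subgroup Cfsg CfsgLib.ConjFunctor CfsgLib.LocalEven.QdOver
open scoped MatrixGroups commutatorElement

variable {G : Type*} [Group G] [Finite G] {F : Type} [Field F] [Fintype F] {p n : ℕ}
  [hp : Fact p.Prime] {σ : Sit p n G F}

/-- In an abelian group of exponent `p` every subgroup has a complement. -/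
theorem exists_compl_in {H D : Subgroup G} (hD : D ≤ H) (hexp : ∀ h ∈ H, h ^ p = 1)
    (hcomm : ∀ a ∈ H, ∀ b ∈ H, a * b = b * a) :
    ∃ A : Subgroup G, A ≤ H ∧ A ⊓ D = ⊥ ∧ A ⊔ D = H := by
  obtain ⟨A, hA⟩ := (Set.toFinite {A : Subgroup G | A ≤ H ∧ A ⊓ D = ⊥}).exists_maximal
    ⟨⊥, bot_le, bot_inf_eq _⟩
  refine ⟨A, hA.1.1, hA.1.2, le_antisymm (sup_le hA.1.1 hD) fun h hh => ?_⟩
  by_contra hnot
  have hle : A ⊔ zpowers h ≤ H := sup_le hA.1.1 (zpowers_le.2 hh)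
  have hinf : (A ⊔ zpowers h) ⊓ D = ⊥ := by
    refine eq_bot_iff.2 ?_
    rintro x ⟨hx, hxD⟩
    have hmul : ∀ y ∈ A ⊔ zpowers h, ∃ a ∈ A, ∃ i : ℤ, y = a * h ^ i := by
      intro y hy
      rw [sup_eq_closure] at hy
      induction hy using closure_induction with
      | mem z hz =>
        rcases hz with hz | hz
        · exact ⟨z, hz, 0, by simp⟩
        · obtain ⟨i, rfl⟩ := mem_zpowers_iff.1 hz
          exact ⟨1, one_mem _, i, by simp⟩
      | one => exact ⟨1, one_mem _, 0, by simp⟩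
      | mul a b _ _ iha ihb =>
        obtain ⟨a1, ha1, i, rfl⟩ := iha
        obtain ⟨b1, hb1, j, rfl⟩ := ihb
        refine ⟨a1 * b1, mul_mem ha1 hb1, i + j, ?_⟩
        have hc : Commute (h ^ i) b1 := hcomm _ (zpow_mem hh i) _ (hA.1.1 hb1)
        rw [zpow_add, mul_assoc a1, ← mul_assoc (h ^ i), hc.eq]
        group
      | inv a _ iha =>
        obtain ⟨a1, ha1, i, rfl⟩ := iha
        refine ⟨a1⁻¹, inv_mem ha1, -i, ?_⟩
        have hc : Commute (h ^ (-i)) a1⁻¹ :=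
          hcomm _ (zpow_mem hh _) _ (inv_mem (hA.1.1 ha1))
        rw [mul_inv_rev, ← zpow_neg, hc.eq]
    obtain ⟨a, ha, i, rfl⟩ := hmul x hx
    by_cases hdiv : h ^ i = 1
    · rw [hdiv, mul_one] at hxD ⊢
      exact (hA.1.2.le ⟨ha, hxD⟩)
    · exfalso
      refine hnot ?_
      have hmem : h ^ i ∈ A ⊔ D := by
        rw [← inv_mul_cancel_left a (h ^ i)]
        exact mul_mem (mem_sup_left (inv_mem ha)) (mem_sup_right hxD)
      have hord : orderOf h = p := by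
        refine orderOf_eq_prime (hexp h hh) fun h1 => hdiv ?_
        rw [h1, one_zpow]
      have hzi : zpowers (h ^ i) = zpowers h := by
        refine Subgroup.eq_of_le_of_card_ge (zpowers_le.2 (zpow_mem (mem_zpowers h) i)) ?_
        rw [Nat.card_zpowers, Nat.card_zpowers, hord]
        exact le_of_eq (orderOf_eq_prime (by rw [← zpow_natCast, ← zpow_mul, mul_comm, zpow_mul,
          zpow_natCast, hexp h hh, one_zpow]) hdiv).symm
      exact zpowers_le.2 hmem (hzi.ge (mem_zpowers h))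
  exact hnot (mem_sup_left (hA.2 ⟨hle, hinf⟩ le_sup_left (mem_sup_right (mem_zpowers h))))

namespace Conf

variable (k : Conf σ) (hE : centralizer (pCore p G : Set G) ≤ pCore p G)
  (hA : k.A = ⊥) (hB : k.B = ⊥) (h2 : p ≠ 2) (hab : ⁅k.E, k.E⁆ = ⊥)

include hA hB h2 hab in
/-- The complement. -/
theorem exists_compl : ∃ L : Subgroup G, L ⊓ pCore p G = ⊥ ∧ L ⊔ pCore p G = ⊤ := by
  haveI hQn : (pCore p G).Normal := Solvable.pCore_normal p G
  haveI := (k.Q_abelian hA hB h2 hab).1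
  obtain ⟨A, hAH, hAD, hAsup⟩ := exists_compl_in (p := p) (H := k.H) (D := k.H ⊓ pCore p G)
    inf_le_left k.c.wingA.exp k.c.wingA.comm
  have hAQ : A ⊓ pCore p G = ⊥ := by
    rw [← hAD, ← inf_assoc, inf_eq_left.2 hAH]
  have hKA : pCore p G ⊔ A = σ.S := by
    rw [← k.c.wingA.sup, sup_comm]
    refine le_antisymm (sup_le (hAH.trans le_sup_left) le_sup_right) (sup_le ?_ le_sup_right)
    rw [← hAsup]
    exact sup_le le_sup_left (inf_le_right.trans le_sup_right)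
  have hcop : (Nat.card (pCore p G)).Coprime (σ.S : Subgroup G).index := by
    obtain ⟨i, hi⟩ := (Solvable.pCore_isPGroup p G).exists_card_eq
    rw [hi]
    exact Nat.Coprime.pow_left i (hp.out.coprime_iff_not_dvd.2 σ.S.not_dvd_index)
  obtain ⟨L, hL⟩ := Solvable.exists_isComplement'_of_le σ.pCore_le_S hcop hAQ hKA
  exact ⟨L, disjoint_iff.1 hL.symm.disjoint, hL.symm.sup_eq_top⟩

include hE hA hB h2 hab in
/-- `G ≅ Qd(q) × E`. -/
theorem exists_qd : ∃ G0 : Subgroup G, (∀ a ∈ G0, ∀ b ∈ k.E, a * b = b * a) ∧ G0 ⊓ k.E = ⊥ ∧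
    G0 ⊔ k.E = ⊤ ∧ Nonempty (↥G0 ≃* ↥(Cfsg.qdOver F)) := by
  classical
  haveI hQn : (pCore p G).Normal := Solvable.pCore_normal p G
  haveI := k.d.normal
  haveI := charP_of_card (p := p) σ.card_F
  obtain ⟨L, hLQ, hLsup⟩ := k.exists_compl hA hB h2 hab
  obtain ⟨hc, hnc⟩ := k.d.chief k.f hE k.hd
  obtain ⟨M⟩ := exists_natData k.f hE k.hd k.d.le hc hnc
  have hbij : Function.Bijective (M.ρ.comp L.subtype) := by
    refine ⟨(injective_iff_map_eq_one _).2 fun x hx => ?_, fun y => ?_⟩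
    · have h1 : (x : G) ∈ pCore p G := by rw [← M.ker]; exact hx
      exact Subtype.ext (mem_bot.1 (hLQ.le ⟨x.2, h1⟩))
    · obtain ⟨g, rfl⟩ := M.surj y
      obtain ⟨l, hl, q, hq, rfl⟩ := exists_mul_of_sup (show g ∈ L ⊔ pCore p G by
        rw [hLsup]; exact mem_top _)
      refine ⟨⟨l, hl⟩, ?_⟩
      have h1 : M.ρ q = 1 := by rw [← MonoidHom.mem_ker, M.ker]; exact hq
      simp [h1]
  set e := MulEquiv.ofBijective (M.ρ.comp L.subtype) hbij with he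
  set s : SL(2, F) →* G := L.subtype.comp e.symm.toMonoidHom with hs
  have hρs : ∀ g, M.ρ (s g) = g := fun g => by
    show (M.ρ.comp L.subtype) (e.symm g) = g
    exact e.apply_symm_apply g
  set neg : SL(2, F) := -1 with hneg
  set j := s neg with hj
  have hneg_vec : ∀ v : Fin 2 → F, (neg : Matrix (Fin 2) (Fin 2) F).mulVec v = -v := fun v => by
    rw [hneg, Matrix.SpecialLinearGroup.coe_neg, Matrix.SpecialLinearGroup.coe_one, Matrix.neg_mulVec,
      Matrix.one_mulVec]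
  have hVc : ∀ {a b : G}, a ∈ k.d.V → b ∈ k.d.V → a * b = b * a := fun ha hb => k.d.comm _ ha _ hb
  let V0 : Subgroup G :=
    { carrier := {v | v ∈ k.d.V ∧ j * v * j⁻¹ = v⁻¹}
      one_mem' := ⟨one_mem _, by simp⟩
      mul_mem' := fun {a b} ha hb => ⟨mul_mem ha.1 hb.1, by
        rw [show j * (a * b) * j⁻¹ = (j * a * j⁻¹) * (j * b * j⁻¹) by group, ha.2, hb.2,
          mul_inv_rev, hVc (inv_mem ha.1) (inv_mem hb.1)]⟩
      inv_mem' := fun {a} ha => ⟨inv_mem ha.1, by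
        rw [show j * a⁻¹ * j⁻¹ = (j * a * j⁻¹)⁻¹ by group, ha.2]⟩ }
  have hm2 : ((2 : ℕ) : ZMod p) ≠ 0 := by
    intro h
    have := (CharP.cast_eq_zero_iff (ZMod p) p 2).1 h
    exact h2 ((Nat.prime_dvd_prime_iff_eq hp.out Nat.prime_two).1 this)
  have hV0c : ∀ v ∈ V0, v ∈ center G → v = 1 := by
    intro v hv hvc
    have h1 := hv.2
    rw [mem_center_iff.1 hvc j, mul_inv_cancel_right] at h1
    refine eq_one_of_pow_pred (k.d.exp v hv.1) (m := 2) ?_ hm2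
    rw [pow_two]
    nth_rewrite 1 [h1]
    exact inv_mul_cancel v
  have hinj : ∀ v ∈ V0, ∀ (hv : v ∈ k.d.V), M.ψ ⟨v, hv⟩ = 0 → v = 1 :=
    fun v hv0 hv h => hV0c v hv0 ((M.zero_iff _).1 h).2
  set mh := (p + 1) / 2
  have hdecomp : ∀ v ∈ k.d.V, ∃ v0 ∈ V0, ∃ c ∈ center G, c ∈ k.d.V ∧ v = v0 * c := by
    intro v hv
    have hv' : j * v * j⁻¹ ∈ k.d.V := k.d.normal.conj_mem v hv j
    have hψ : M.ψ ⟨j * v * j⁻¹, hv'⟩ = - M.ψ ⟨v, hv⟩ := by
      rw [M.equivariant j ⟨v, hv⟩ hv', hj, hρs, hneg_vec]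
    set c := j * v * j⁻¹ * v with hcdef
    have hcC : c ∈ k.d.V ⊓ center G := by
      have := (M.zero_iff (⟨j * v * j⁻¹, hv'⟩ * ⟨v, hv⟩)).1 (by rw [M.add, hψ, neg_add_cancel])
      exact this
    have hodd : p % 2 = 1 := hp.out.eq_two_or_odd.resolve_left h2
    have hc2 : c ^ mh * c ^ mh = c := by
      rw [← pow_add, show mh + mh = p + 1 by omega, pow_succ, k.d.exp c hcC.1, one_mul]
    have hcm : c ^ mh ∈ center G := pow_mem hcC.2 mh
    refine ⟨v * (c ^ mh)⁻¹, ⟨mul_mem hv (inv_mem (pow_mem hcC.1 mh)), ?_⟩, c ^ mh, hcm,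
      pow_mem hcC.1 mh, by group⟩
    have hk : ∀ y : G, y * c ^ mh = c ^ mh * y := mem_center_iff.1 hcm
    have hk' : ∀ y : G, y * (c ^ mh)⁻¹ = (c ^ mh)⁻¹ * y := mem_center_iff.1 (inv_mem hcm)
    calc j * (v * (c ^ mh)⁻¹) * j⁻¹ = j * v * ((c ^ mh)⁻¹ * j⁻¹) := by group
      _ = j * v * (j⁻¹ * (c ^ mh)⁻¹) := by rw [hk' j⁻¹]
      _ = (c ^ mh * c ^ mh) * v⁻¹ * (c ^ mh)⁻¹ := by rw [hc2, hcdef]; group
      _ = c ^ mh * (c ^ mh * v⁻¹) * (c ^ mh)⁻¹ := by group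
      _ = c ^ mh * (v⁻¹ * c ^ mh) * (c ^ mh)⁻¹ := by rw [hk v⁻¹]
      _ = (v * (c ^ mh)⁻¹)⁻¹ := by group
  have hsurj : ∀ w : Fin 2 → F, ∃ v ∈ V0, ∃ hv : v ∈ k.d.V, M.ψ ⟨v, hv⟩ = w := by
    intro w
    obtain ⟨⟨v, hv⟩, rfl⟩ := M.psurj w
    obtain ⟨v0, hv0, c, hcc, hcV, rfl⟩ := hdecomp v hv
    refine ⟨v0, hv0, hv0.1, ?_⟩
    have h0 : M.ψ ⟨c, hcV⟩ = 0 := (M.zero_iff _).2 ⟨hcV, hcc⟩
    rw [show (⟨v0 * c, hv⟩ : k.d.V) = ⟨v0, hv0.1⟩ * ⟨c, hcV⟩ from rfl, M.add, h0, add_zero]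
  choose ι hι0 hιV hιψ using hsurj
  have huniq : ∀ v ∈ V0, ∀ (hv : v ∈ k.d.V) (w : Fin 2 → F), M.ψ ⟨v, hv⟩ = w → v = ι w := by
    intro v hv0 hv w hw
    refine mul_inv_eq_one.1 (hinj _ (mul_mem hv0 (inv_mem (hι0 w)))
      (mul_mem hv (inv_mem (hιV w))) ?_)
    rw [show (⟨v * (ι w)⁻¹, _⟩ : k.d.V) = ⟨v, hv⟩ * (⟨ι w, hιV w⟩ : k.d.V)⁻¹ from rfl, M.add,
      M.inv, hw, hιψ, add_neg_cancel]
  have hιadd : ∀ u w, ι (u + w) = ι u * ι w := fun u w =>
    (huniq _ (mul_mem (hι0 u) (hι0 w)) (mul_mem (hιV u) (hιV w)) _ (by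
      rw [show (⟨ι u * ι w, _⟩ : k.d.V) = ⟨ι u, hιV u⟩ * ⟨ι w, hιV w⟩ from rfl, M.add, hιψ,
        hιψ])).symm
  have hconj : ∀ g w, s g * ι w * (s g)⁻¹ = ι ((g : Matrix (Fin 2) (Fin 2) F).mulVec w) := by
    intro g w
    have hv : s g * ι w * (s g)⁻¹ ∈ k.d.V := k.d.normal.conj_mem _ (hιV w) _
    refine huniq _ ⟨hv, ?_⟩ hv _ (by rw [M.equivariant (s g) ⟨ι w, hιV w⟩ hv, hρs, hιψ])
    have hc : j * s g = s g * j := by
      rw [hj, ← map_mul, ← map_mul, hneg, neg_one_mul, mul_neg_one]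
    calc j * (s g * ι w * (s g)⁻¹) * j⁻¹ = (j * s g) * ι w * (j * s g)⁻¹ := by group
      _ = s g * (j * ι w * j⁻¹) * (s g)⁻¹ := by rw [hc]; group
      _ = _ := by rw [(hι0 w).2]; group
  set φ : ↥(Cfsg.qdOver F) →* G := MonoidHom.mk' (fun M => ι (traPart M) * s (linPart M)) (by
    intro a b
    rw [traPart_mul, map_mul, map_mul, add_comm, hιadd, ← hconj]
    group) with hφ
  have hφinj : Function.Injective φ := by
    refine (injective_iff_map_eq_one _).2 fun a ha => ?_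
    have h1 : ι (traPart a) * s (linPart a) = 1 := ha
    have hl : linPart a = 1 := by
      have h3 := congrArg M.ρ h1
      rw [map_mul, map_one, hρs, show M.ρ (ι (traPart a)) = 1 by
        rw [← MonoidHom.mem_ker, M.ker]; exact k.d.le (hιV _), one_mul] at h3
      exact h3
    rw [hl, map_one, mul_one] at h1
    have ht : traPart a = 0 := by
      rw [← hιψ (traPart a)]
      refine (M.zero_iff _).2 ?_
      show ι (traPart a) ∈ _
      rw [h1]; exact one_mem _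
    exact ext_parts (hl.trans (map_one _).symm) (ht.trans traPart_one.symm)
  have hcen := k.E_le_center hA hB hab
  refine ⟨φ.range, fun a _ b hb => (mem_center_iff.1 (hcen hb) a), eq_bot_iff.2 ?_,
    eq_top_iff.2 ?_, ⟨(MonoidHom.ofInjective hφinj).symm⟩⟩
  · rintro _ ⟨⟨a, rfl⟩, ha⟩
    have h1 : ι (traPart a) * s (linPart a) ∈ pCore p G := k.E_le_Q ha
    have hl : linPart a = 1 := by
      have h3 : M.ρ (ι (traPart a) * s (linPart a)) = 1 := by
        rw [← MonoidHom.mem_ker, M.ker]; exact h1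
      rwa [map_mul, hρs, show M.ρ (ι (traPart a)) = 1 by
        rw [← MonoidHom.mem_ker, M.ker]; exact k.d.le (hιV _), one_mul] at h3
    show ι (traPart a) * s (linPart a) ∈ _
    rw [hl, map_one, mul_one, mem_bot]
    refine hV0c _ (hι0 _) (hcen ?_)
    have h4 : ι (traPart a) * s (linPart a) ∈ k.E := ha
    rwa [hl, map_one, mul_one] at h4
  · rw [← hLsup]
    refine sup_le (fun l hl => mem_sup_left ⟨mkAff (M.ρ l) 0, ?_⟩) ?_
    · show ι (traPart (mkAff (M.ρ l) 0)) * s (linPart (mkAff (M.ρ l) 0)) = l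
      rw [traPart_mkAff, linPart_mkAff, show ι 0 = 1 from
        (huniq 1 (one_mem _) (one_mem _) 0 M.zero).symm, one_mul]
      show ((e.symm ((M.ρ.comp L.subtype) ⟨l, hl⟩)) : G) = l
      exact congrArg Subtype.val (e.symm_apply_apply ⟨l, hl⟩)
    · rw [← k.one_Q hA hB]
      refine sup_le (fun v hv => ?_) le_sup_right
      obtain ⟨v0, hv0, c, hcc, hcV, rfl⟩ := hdecomp v hv
      refine mul_mem (mem_sup_left ⟨mkAff 1 (M.ψ ⟨v0, hv0.1⟩), ?_⟩)
        (mem_sup_right (k.center_inf_le_E (k.d.le hcV) hcc))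
      show ι (traPart (mkAff 1 (M.ψ ⟨v0, hv0.1⟩))) * s (linPart (mkAff 1 (M.ψ ⟨v0, hv0.1⟩))) = v0
      rw [traPart_mkAff, linPart_mkAff, map_one, mul_one, ← huniq v0 hv0 hv0.1 _ rfl]

end Conf

end CfsgLib.PushingUp
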